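import Mathlib

set_option autoImplicit false

open scoped Pointwise
open Polynomial

namespace Groth.Agent.H8.Ram

section card

variable {A B : Type*} [CommRing A] [CommRing B] [Algebra A B]
  (G : Type*) [Group G] [Finite G] [MulSemiringAction G B] [IsGaloisGroup G A B]
  (p : Ideal A) [p.IsMaximal] (P : Ideal B) [P.IsMaximal] [P.LiesOver p]
  [Algebra.IsSeparable (A ⧸ p) (B ⧸ P)]

attribute [local instance] Ideal.Quotient.field in
theorem card_stabilizer_eq_card_inertia_mul_finrank :
    Nat.card (MulAction.stabilizer G P) = Nat.card (P.inertia G) * Module.finrank (A ⧸ p) (B ⧸ P) := by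
  have : IsGalois (A ⧸ p) (B ⧸ P) := { __ := Ideal.Quotient.normal G p P }
  have : Module.Finite (A ⧸ p) (B ⧸ P) := Ideal.Quotient.finite_of_isInvariant G p P
  have : Subgroup.index _ = _ := Nat.card_congr
    (Ideal.Quotient.stabilizerQuotientInertiaEquiv G p P).toEquiv
  rw [← IsGalois.card_aut_eq_finrank (A ⧸ p) (B ⧸ P), ← this,
    ← ((P.inertia G).subgroupOf (MulAction.stabilizer G P)).card_mul_index,
    Nat.card_congr (Subgroup.subgroupOfEquivOfLe (Ideal.inertia_le_stabilizer (M := G) P)).toEquiv,
    AddSubgroup.subgroupOf_inertia]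

variable [IsDomain A] [IsDomain B] [Module.Finite A B] [Module.Flat A B]

include p in
theorem card_inertia_eq_ramificationIdx :
    Nat.card (P.inertia G) = P.ramificationIdx A := by
  have H : (p.primesOver B).ncard * Nat.card (P.inertia G) * Module.finrank (A ⧸ p) (B ⧸ P)
      = Nat.card G := by
    rw [mul_assoc, ← card_stabilizer_eq_card_inertia_mul_finrank G p P,
      ← Algebra.IsInvariant.orbit_eq_primesOver A B G p P]
    simpa using Nat.card_congr (MulAction.orbitProdStabilizerEquivGroup G P)
  rw [← Ideal.inertiaDeg_eq_of_isMaximal p P, ← Ideal.inertiaDegIn_eq_inertiaDeg p P G] at H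
  have h1 : (p.primesOver B).ncard ≠ 0 := by
    intro h0; rw [h0, zero_mul, zero_mul] at H
    exact (Nat.card_pos (α := G)).ne H
  have h2 : p.inertiaDegIn B ≠ 0 := by
    intro h0; rw [h0, mul_zero] at H
    exact (Nat.card_pos (α := G)).ne H
  rw [← Ideal.ncard_primesOver_mul_ramificationIdxIn_mul_inertiaDegIn p B G,
    mul_assoc, mul_right_inj' h1, mul_left_inj' h2] at H
  rw [H, Ideal.ramificationIdxIn_eq_ramificationIdx p P G]

end card

end Groth.Agent.H8.Ram
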