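import Mathlib

set_option autoImplicit false

namespace Groth.Agent.H8.Ram

section num

variable {I : Type*} [Group I] [Finite I] (N : Subgroup I) [N.Normal]
  {F : Type*} [Field F] (φ : I ⧸ N →* Fˣ) (hφ : Function.Injective φ)

include hφ in
lemma isCyclic_quotient : IsCyclic (I ⧸ N) :=
  isCyclic_of_injective_ringHom ((Units.coeHom F).comp φ)
    (Units.val_injective.comp hφ)

include hφ in
lemma not_dvd_card_quotient (p : ℕ) [hp : Fact p.Prime] [CharP F p] : ¬ p ∣ Nat.card (I ⧸ N) := by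
  intro hdvd
  obtain ⟨g, hg⟩ := exists_prime_orderOf_dvd_card' p hdvd
  have h1 : (φ g) ^ p = 1 := by rw [← map_pow, ← hg, pow_orderOf_eq_one, map_one]
  have h2 : ((φ g : Fˣ) : F) ^ p = 1 ^ p := by
    rw [one_pow, ← Units.val_pow_eq_pow_val, h1, Units.val_one]
  have h3 : ((φ g : Fˣ) : F) = 1 := frobenius_inj F p h2
  have h4 : g = 1 := hφ (by rw [map_one]; exact Units.ext h3)
  rw [h4, orderOf_one] at hg
  exact hp.out.one_lt.ne hg

include hφ in
lemma card_quotient_of_charP (e : ℕ) (he : Nat.card I = e) (p : ℕ) [hp : Fact p.Prime] [CharP F p]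
    (hN : IsPGroup p N) :
    Nat.card (I ⧸ N) = e / p ^ e.factorization p ∧ ∃ k, e = p ^ k * Nat.card (I ⧸ N) := by
  obtain ⟨k, hk⟩ := hN.exists_card_eq
  have h1 : e = p ^ k * Nat.card (I ⧸ N) := by
    rw [← he, ← hk, mul_comm]; exact N.card_eq_card_quotient_mul_card_subgroup
  have h2 := not_dvd_card_quotient N φ hφ p
  have h3 : Nat.card (I ⧸ N) ≠ 0 := Nat.card_pos.ne'
  have h4 : e.factorization p = k := by
    rw [h1, Nat.factorization_mul (pow_ne_zero _ hp.out.ne_zero) h3, Finsupp.add_apply,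
      Nat.factorization_eq_zero_of_not_dvd h2, add_zero, hp.out.factorization_pow,
      Finsupp.single_eq_same]
  refine ⟨?_, k, h1⟩
  rw [h4]
  conv_rhs => rw [h1]
  rw [Nat.mul_div_cancel_left _ (pow_pos hp.out.pos _)]

include hφ in
lemma nonempty_mulEquiv_rootsOfUnity (e : ℕ)
    (hq : rootsOfUnity e F = rootsOfUnity (Nat.card (I ⧸ N)) F) :
    Nonempty (I ⧸ N ≃* rootsOfUnity e F) := by
  set e' := Nat.card (I ⧸ N) with he'
  have hmem : ∀ g, φ g ∈ rootsOfUnity e' F := by
    intro g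
    rw [mem_rootsOfUnity, ← map_pow, he', pow_card_eq_one', map_one]
  let ψ : I ⧸ N →* rootsOfUnity e' F := φ.codRestrict _ hmem
  have hψ : Function.Injective ψ := by
    intro a b hab
    apply hφ
    exact congrArg Subtype.val hab
  have hcard : Nat.card (rootsOfUnity e' F) ≤ Nat.card (I ⧸ N) := card_rootsOfUnity F e'
  have hbij : Function.Bijective ψ := hψ.bijective_of_nat_card_le hcard
  exact ⟨(MulEquiv.ofBijective ψ hbij).trans (MulEquiv.subgroupCongr hq.symm)⟩

end num

end Groth.Agent.H8.Ram
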