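import Mathlib

set_option autoImplicit false

open scoped Pointwise
open Polynomial

namespace Groth.Agent.H8.Ram

section theta

variable {B : Type*} [CommRing B] {G : Type*} [Group G] [MulSemiringAction G B] (m : Ideal B)
  [hmax : m.IsMaximal] (π : B) (hπ : π ∈ m) (hπ2 : π ∉ m ^ 2) (hm : m ≤ Ideal.span {π} ⊔ m ^ 2)

include hm in
lemma exists_sub_mul_mem {y : B} (hy : y ∈ m) : ∃ u : B, y - u * π ∈ m ^ 2 := by
  obtain ⟨a, ha, z, hz, rfl⟩ := Submodule.mem_sup.mp (hm hy)
  obtain ⟨u, rfl⟩ := Ideal.mem_span_singleton'.mp ha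
  exact ⟨u, by simpa using hz⟩

include hmax hπ hπ2 in
lemma mem_of_mul_mem_sq {u : B} (hu : u * π ∈ m ^ 2) : u ∈ m := by
  by_contra hn
  obtain ⟨v, i, hi, hvi⟩ := hmax.exists_inv hn
  apply hπ2
  have e : π = v * (u * π) + i * π := by
    calc π = (v * u + i) * π := by rw [hvi, one_mul]
      _ = _ := by ring
  rw [e]
  refine Ideal.add_mem _ (Ideal.mul_mem_left _ _ hu) ?_
  rw [pow_two]; exact Ideal.mul_mem_mul hi hπ

include hπ in
lemma smul_pi_mem {σ : G} (hσ : σ ∈ m.inertia G) : σ • π ∈ m := by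
  have := hσ π
  have e : σ • π = (σ • π - π) + π := by ring
  rw [e]; exact m.add_mem this hπ

/-- the underlying function of θ -/
noncomputable def theta0 (σ : m.inertia G) : B ⧸ m :=
  Ideal.Quotient.mk m (exists_sub_mul_mem m π hm (smul_pi_mem m π hπ σ.2)).choose

include hmax hπ2 in
lemma theta0_eq (σ : m.inertia G) (u : B) (h : (σ : G) • π - u * π ∈ m ^ 2) :
    theta0 m π hπ hm σ = Ideal.Quotient.mk m u := by
  have h' := (exists_sub_mul_mem m π hm (smul_pi_mem m π hπ σ.2)).choose_spec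
  rw [theta0, Ideal.Quotient.eq]
  apply mem_of_mul_mem_sq m π hπ hπ2
  have := Ideal.sub_mem _ h h'
  convert this using 1; ring

include hmax hπ2 in
lemma theta0_one : theta0 m π hπ hm (1 : m.inertia G) = 1 := by
  rw [theta0_eq m π hπ hπ2 hm 1 1 (by simp)]; rfl

include hmax hπ2 in
lemma theta0_mul (σ τ : m.inertia G) :
    theta0 m π hπ hm (σ * τ) = theta0 m π hπ hm σ * theta0 m π hπ hm τ := by
  obtain ⟨us, hus⟩ := exists_sub_mul_mem m π hm (smul_pi_mem m π hπ σ.2)
  obtain ⟨ut, hut⟩ := exists_sub_mul_mem m π hm (smul_pi_mem m π hπ τ.2)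
  rw [theta0_eq m π hπ hπ2 hm σ us hus, theta0_eq m π hπ hπ2 hm τ ut hut, ← map_mul]
  apply theta0_eq m π hπ hπ2 hm
  have hσD : (σ : G) ∈ MulAction.stabilizer G m := Ideal.inertia_le_stabilizer m σ.2
  have h1 : (σ : G) • ((τ : G) • π - ut * π) ∈ m ^ 2 := by
    have := Ideal.smul_mem_pointwise_smul (σ : G) _ (m ^ 2) hut
    have e : (σ : G) • (m ^ 2) = m ^ 2 := by
      have h : (σ : G) • m = m := hσD
      rw [Ideal.pointwise_smul_def, Ideal.map_pow, ← Ideal.pointwise_smul_def, h]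
    rwa [e] at this
  have h2 : (σ : G) • ut - ut ∈ m := σ.2 ut
  have e : ((σ * τ : m.inertia G) : G) • π - us * ut * π
      = (σ : G) • ((τ : G) • π - ut * π) + (σ : G) • ut * ((σ : G) • π - us * π)
        + ((σ : G) • ut - ut) * (us * π) := by
    rw [Subgroup.coe_mul, mul_smul, smul_sub, smul_mul']; ring
  rw [e]
  refine Ideal.add_mem _ (Ideal.add_mem _ h1 (Ideal.mul_mem_left _ _ hus)) ?_
  rw [pow_two]; exact Ideal.mul_mem_mul h2 (Ideal.mul_mem_left _ _ hπ)

/-- The tame character `θ : I →* (B/m)`. -/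
noncomputable def theta : m.inertia G →* (B ⧸ m) where
  toFun := theta0 m π hπ hm
  map_one' := theta0_one m π hπ hπ2 hm
  map_mul' := theta0_mul m π hπ hπ2 hm

lemma theta_eq_one_iff (σ : m.inertia G) :
    theta m π hπ hπ2 hm σ = 1 ↔ (σ : G) • π - π ∈ m ^ 2 := by
  constructor
  · intro h
    obtain ⟨us, hus⟩ := exists_sub_mul_mem m π hm (smul_pi_mem m π hπ σ.2)
    have h1 : theta m π hπ hπ2 hm σ = Ideal.Quotient.mk m us :=
      theta0_eq m π hπ hπ2 hm σ us hus
    rw [h] at h1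
    have h2 : (1 : B) - us ∈ m := by
      rw [← Ideal.Quotient.eq]; exact h1
    have e : (σ : G) • π - π = ((σ : G) • π - us * π) - (1 - us) * π := by ring
    rw [e]
    refine Ideal.sub_mem _ hus ?_
    rw [pow_two]; exact Ideal.mul_mem_mul h2 hπ
  · intro h
    exact theta0_eq m π hπ hπ2 hm σ 1 (by simpa using h)

include hπ hm in
/-- If `σ ∈ I` fixes `π` mod `m²`, it acts trivially on `m/m²`. -/
lemma smul_sub_mem_sq_of_mem {σ : G} (hσ : σ ∈ m.inertia G) (h : σ • π - π ∈ m ^ 2)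
    {y : B} (hy : y ∈ m) : σ • y - y ∈ m ^ 2 := by
  obtain ⟨u, hu⟩ := exists_sub_mul_mem m π hm hy
  have hσD : σ ∈ MulAction.stabilizer G m := Ideal.inertia_le_stabilizer m hσ
  have h1 : σ • (y - u * π) ∈ m ^ 2 := by
    have := Ideal.smul_mem_pointwise_smul σ _ (m ^ 2) hu
    have e : σ • (m ^ 2) = m ^ 2 := by
      have h : σ • m = m := hσD
      rw [Ideal.pointwise_smul_def, Ideal.map_pow, ← Ideal.pointwise_smul_def, h]
    rwa [e] at this
  have h2 : σ • u - u ∈ m := hσ u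
  have e : σ • y - y = σ • (y - u * π) - (y - u * π) + σ • u * (σ • π - π) + (σ • u - u) * π := by
    rw [smul_sub, smul_mul']; ring
  rw [e]
  refine Ideal.add_mem _ (Ideal.add_mem _ (Ideal.sub_mem _ h1 hu) (Ideal.mul_mem_left _ _ h)) ?_
  rw [pow_two]; exact Ideal.mul_mem_mul h2 hπ

end theta


section sep

variable {B : Type*} [CommRing B] {G : Type*} [Group G] [MulSemiringAction G B] (m : Ideal B)
  [hmax : m.IsMaximal]
  (A : Type*) [CommRing A] [Algebra A B] (k : Type*) [CommRing k] [Algebra A k] [Algebra k (B ⧸ m)]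
  [IsScalarTower A k (B ⧸ m)]

lemma exists_poly_of_isSeparable (hsurj : Function.Surjective (algebraMap A k))
    [Algebra.IsSeparable k (B ⧸ m)] (x : B) :
    ∃ f : A[X], aeval x f ∈ m ∧ aeval x (derivative f) ∉ m := by
  have : Nontrivial (B ⧸ m) := Ideal.Quotient.nontrivial_iff.mpr hmax.ne_top
  set xb : B ⧸ m := Ideal.Quotient.mk m x with hxb
  have hs : (minpoly k xb).Separable := Algebra.IsSeparable.isSeparable k xb
  obtain ⟨f, hf⟩ := Polynomial.map_surjective (algebraMap A k) hsurj (minpoly k xb)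
  have key : ∀ g : A[X], Ideal.Quotient.mk m (aeval x g) = aeval xb (g.map (algebraMap A k)) := by
    intro g
    rw [aeval_map_algebraMap, hxb, ← Ideal.Quotient.algebraMap_eq, ← aeval_algebraMap_apply]
  refine ⟨f, ?_, ?_⟩
  · rw [← Ideal.Quotient.eq_zero_iff_mem, key, hf, minpoly.aeval]
  · rw [← Ideal.Quotient.eq_zero_iff_mem, key, ← derivative_map, hf]
    exact hs.aeval_derivative_ne_zero (minpoly.aeval _ _)

variable [SMulCommClass G A B]

lemma mem_inertia_sq_of_isSeparable (hsurj : Function.Surjective (algebraMap A k))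
    [Algebra.IsSeparable k (B ⧸ m)] {σ : G} (hσ : σ ∈ m.inertia G)
    (h : ∀ y ∈ m, σ • y - y ∈ m ^ 2) : σ ∈ (m ^ 2).inertia G := by
  intro x
  obtain ⟨f, hf1, hf2⟩ := exists_poly_of_isSeparable m A k hsurj x
  obtain ⟨c, hc⟩ := Polynomial.binomExpansion (f.map (algebraMap A B)) x (σ • x - x)
  rw [add_sub_cancel, eval_map_algebraMap, eval_map_algebraMap, derivative_map,
    eval_map_algebraMap] at hc
  have h1 : σ • aeval x f = aeval (σ • x) f := by
    have := Polynomial.aeval_algHom_apply (MulSemiringAction.toAlgHom A B σ) x f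
    simpa using this.symm
  have h2 := h _ hf1
  rw [h1, hc] at h2
  have hx : σ • x - x ∈ m := hσ x
  have h3 : aeval x (derivative f) * (σ • x - x) ∈ m ^ 2 := by
    have h4 : c * (σ • x - x) ^ 2 ∈ m ^ 2 := Ideal.mul_mem_left _ _ (Ideal.pow_mem_pow hx 2)
    have := Ideal.sub_mem _ h2 h4
    convert this using 1; ring
  obtain ⟨v, i, hi, hvi⟩ := hmax.exists_inv hf2
  have e : σ • x - x = v * (aeval x (derivative f) * (σ • x - x)) + i * (σ • x - x) := by
    calc σ • x - x = (v * aeval x (derivative f) + i) * (σ • x - x) := by rw [hvi, one_mul]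
      _ = _ := by ring
  rw [e]
  refine Ideal.add_mem _ (Ideal.mul_mem_left _ _ h3) ?_
  rw [pow_two]; exact Ideal.mul_mem_mul hi hx

end sep

end Groth.Agent.H8.Ram
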