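import Mathlib

set_option autoImplicit false

open scoped Pointwise

namespace Groth.Agent.H8.Ram

variable {B : Type*} [CommRing B] {G : Type*} [Group G] [MulSemiringAction G B] (m : Ideal B)

lemma smul_pow_eq_of_mem_stabilizer {σ : G} (hσ : σ ∈ MulAction.stabilizer G m) (n : ℕ) :
    σ • (m ^ n) = m ^ n := by
  have h : σ • m = m := hσ
  rw [Ideal.pointwise_smul_def, Ideal.map_pow, ← Ideal.pointwise_smul_def, h]

lemma smul_mem_pow_of_mem_stabilizer {σ : G} (hσ : σ ∈ MulAction.stabilizer G m) (n : ℕ)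
    {x : B} (hx : x ∈ m ^ n) : σ • x ∈ m ^ n := by
  have := Ideal.smul_mem_pointwise_smul σ x (m ^ n) hx
  rwa [smul_pow_eq_of_mem_stabilizer m hσ n] at this

lemma wild_le_inertia :
    MulAction.stabilizer G m ⊓ (m ^ 2).inertia G ≤ m.inertia G := by
  intro σ hσ x
  exact Ideal.pow_le_self two_ne_zero (hσ.2 x)

lemma wild_normal :
    ((MulAction.stabilizer G m ⊓ (m ^ 2).inertia G).subgroupOf (MulAction.stabilizer G m)).Normal := by
  refine (Subgroup.normal_subgroupOf_iff inf_le_left).mpr fun h k hh hk => ?_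
  refine ⟨Subgroup.mul_mem _ (Subgroup.mul_mem _ hk hh.1) (Subgroup.inv_mem _ hk), fun x => ?_⟩
  have h1 : h • (k⁻¹ • x) - k⁻¹ • x ∈ m ^ 2 := hh.2 _
  have h2 := smul_mem_pow_of_mem_stabilizer m hk 2 h1
  have : (k * h * k⁻¹) • x - x = k • (h • (k⁻¹ • x) - k⁻¹ • x) := by
    rw [smul_sub, mul_smul, mul_smul, smul_inv_smul]
  rw [this]; exact h2

/-- An element acting trivially mod `m^i` (`i ≥ 2`) acts trivially on `m^i/m^(i+1)`. -/
lemma smul_sub_mem_pow_succ {i : ℕ} (hi : 2 ≤ i) {τ : G} (hτ : τ ∈ (m ^ i).inertia G)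
    {y : B} (hy : y ∈ m ^ i) : τ • y - y ∈ m ^ (i + 1) := by
  obtain ⟨j, rfl⟩ : ∃ j, i = j + 1 := ⟨i - 1, by omega⟩
  rw [pow_succ'] at hy
  refine Submodule.mul_induction_on hy (fun a ha z hz => ?_) (fun x y hx hy => ?_)
  · have e : τ • (a * z) - a * z = τ • a * (τ • z - z) + (τ • a - a) * z := by
      rw [smul_mul']; ring
    rw [e]
    have h1 : τ • z - z ∈ m ^ (j + 1) := hτ z
    have h2 : τ • a - a ∈ m ^ (j + 1) := hτ a
    have h3 : τ • a ∈ m := by
      have : τ • a = (τ • a - a) + a := by ring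
      rw [this]
      exact m.add_mem (Ideal.pow_le_self (by omega) h2) ha
    refine Ideal.add_mem _ ?_ ?_
    · rw [pow_succ' m (j + 1)]
      exact Ideal.mul_mem_mul h3 h1
    · have : (τ • a - a) * z ∈ m ^ (j + 1) * m ^ j := Ideal.mul_mem_mul h2 hz
      rw [← pow_add] at this
      exact Ideal.pow_le_pow_right (by omega) this
  · have e : τ • (x + y) - (x + y) = (τ • x - x) + (τ • y - y) := by
      rw [smul_add]; ring
    rw [e]; exact Ideal.add_mem _ hx hy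

lemma pow_smul_sub_mem {i : ℕ} (hi : 2 ≤ i) {σ : G} (hσ : σ ∈ (m ^ i).inertia G) (n : ℕ) (x : B) :
    σ ^ n • x - x - n • (σ • x - x) ∈ m ^ (i + 1) := by
  induction n with
  | zero => simp
  | succ n ih =>
    have e : σ ^ (n + 1) • x - x - (n + 1) • (σ • x - x)
        = (σ ^ n • (σ • x - x) - (σ • x - x)) + (σ ^ n • x - x - n • (σ • x - x)) := by
      have e1 : σ ^ n • (σ • x - x) = σ ^ n • σ • x - σ ^ n • x := smul_sub _ _ _
      rw [pow_succ, mul_smul, e1, succ_nsmul]; ring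
    rw [e]
    exact Ideal.add_mem _ (smul_sub_mem_pow_succ m hi (pow_mem hσ n) (hσ x)) ih

lemma mem_inertia_succ {i : ℕ} (hi : 2 ≤ i) {σ : G} (hσ : σ ∈ (m ^ i).inertia G) (n : ℕ)
    (hn : σ ^ n = 1) (v : B) (hv : v * (n : B) - 1 ∈ m) : σ ∈ (m ^ (i + 1)).inertia G := by
  intro x
  have h1 := pow_smul_sub_mem m hi hσ n x
  rw [hn, one_smul, sub_self, zero_sub, neg_mem_iff] at h1
  have h2 : σ • x - x ∈ m ^ i := hσ x
  have e : σ • x - x = v * (n • (σ • x - x)) - (v * (n : B) - 1) * (σ • x - x) := by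
    rw [nsmul_eq_mul]; ring
  rw [e]
  refine Ideal.sub_mem _ (Ideal.mul_mem_left _ _ h1) ?_
  rw [pow_succ']
  exact Ideal.mul_mem_mul hv h2

lemma mem_inertia_all {σ : G} (hσ : σ ∈ (m ^ 2).inertia G) (n : ℕ)
    (hn : σ ^ n = 1) (v : B) (hv : v * (n : B) - 1 ∈ m) (i : ℕ) : σ ∈ (m ^ (i + 2)).inertia G := by
  induction i with
  | zero => exact hσ
  | succ i ih => exact mem_inertia_succ m (by omega) ih n hn v hv

lemma eq_one_of_pow_eq_one [FaithfulSMul G B] (hm : ⨅ i : ℕ, m ^ i = ⊥)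
    {σ : G} (hσ : σ ∈ (m ^ 2).inertia G) (n : ℕ)
    (hn : σ ^ n = 1) (v : B) (hv : v * (n : B) - 1 ∈ m) : σ = 1 := by
  apply FaithfulSMul.eq_of_smul_eq_smul (α := B)
  intro x
  rw [one_smul, ← sub_eq_zero, ← Ideal.mem_bot, ← hm, Ideal.mem_iInf]
  intro i
  have := mem_inertia_all m hσ n hn v hv i x
  exact Ideal.pow_le_pow_right (by omega) this

end Groth.Agent.H8.Ram
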