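import Mathlib
import Groth.Agent.Lib.Helper8.Ram.Wild
import Groth.Agent.Lib.Helper8.Ram.Theta
import Groth.Agent.Lib.Helper8.Ram.Card
import Groth.Agent.Lib.Helper8.Ram.Num

set_option autoImplicit false

open scoped Pointwise

namespace Groth.Agent.H8.Ram

lemma exists_uniformizer {B : Type*} [CommRing B] [IsDedekindDomain B] (m : Ideal B) [hmax : m.IsMaximal]
    (hm0 : m ≠ ⊥) : ∃ π ∈ m, π ∉ m ^ 2 ∧ m ≤ Ideal.span {π} ⊔ m ^ 2 := by
  obtain ⟨π, hπ1, hπ2⟩ := m.exists_mem_pow_notMem_pow_succ hm0 hmax.ne_top 1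
  rw [pow_one] at hπ1
  refine ⟨π, hπ1, hπ2, ?_⟩
  have hprime : Prime m := Ideal.prime_of_isPrime hm0 hmax.isPrime
  have hdvd : (Ideal.span {π} ⊔ m ^ 2) ∣ m ^ 2 := Ideal.dvd_iff_le.mpr le_sup_right
  obtain ⟨i, hi, hassoc⟩ := (dvd_prime_pow hprime 2).mp hdvd
  rw [associated_iff_eq] at hassoc
  have hJle : Ideal.span {π} ⊔ m ^ 2 ≤ m :=
    sup_le ((Ideal.span_singleton_le_iff_mem _).mpr hπ1) (Ideal.pow_le_self two_ne_zero)
  have hπJ : π ∈ Ideal.span {π} ⊔ m ^ 2 := Ideal.mem_sup_left (Ideal.mem_span_singleton_self π)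
  interval_cases i
  · exfalso
    rw [pow_zero, Ideal.one_eq_top] at hassoc
    rw [hassoc] at hJle
    exact hmax.ne_top (top_le_iff.mp hJle)
  · rw [hassoc, pow_one]
  · exfalso
    rw [hassoc] at hπJ
    exact hπ2 hπJ

section wild

variable {B : Type*} [CommRing B] [IsDedekindDomain B]
  (G : Type*) [Group G] [Finite G] [MulSemiringAction G B] [FaithfulSMul G B]
  (m : Ideal B) [hmax : m.IsMaximal]

omit [IsDedekindDomain B] in
lemma exists_mul_natCast_sub_one_mem (n : ℕ) (hn : (n : B ⧸ m) ≠ 0) : ∃ v : B, v * (n : B) - 1 ∈ m := by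
  have h1 : (n : B) ∉ m := by
    rw [← Ideal.Quotient.eq_zero_iff_mem, map_natCast]; exact hn
  obtain ⟨v, i, hi, hvi⟩ := hmax.exists_inv h1
  refine ⟨v, ?_⟩
  have : v * (n : B) - 1 = - i := by rw [← hvi]; ring
  rw [this]; exact m.neg_mem hi

lemma wild_pow_eq_one_of_charP (p : ℕ) (hp : p.Prime) [CharP (B ⧸ m) p] {σ : G}
    (hσ : σ ∈ (m ^ 2).inertia G) : ∃ k : ℕ, σ ^ (p ^ k) = 1 := by
  have hkr : ⨅ i : ℕ, m ^ i = ⊥ := Ideal.iInf_pow_eq_bot_of_isDomain m hmax.ne_top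
  have hn0 : orderOf σ ≠ 0 := (orderOf_pos σ).ne'
  obtain ⟨k, n', hn', hk⟩ := Nat.exists_eq_pow_mul_and_not_dvd hn0 p hp.ne_one
  refine ⟨k, ?_⟩
  have h1 : (σ ^ (p ^ k)) ^ n' = 1 := by rw [← pow_mul, ← hk, pow_orderOf_eq_one]
  have h2 : ((n' : ℕ) : B ⧸ m) ≠ 0 := by
    rw [Ne, CharP.cast_eq_zero_iff (B ⧸ m) p]; exact hn'
  obtain ⟨v, hv⟩ := exists_mul_natCast_sub_one_mem m n' h2
  exact eq_one_of_pow_eq_one m hkr (pow_mem hσ _) n' h1 v hv

lemma wild_eq_one_of_charZero [CharZero (B ⧸ m)] {σ : G}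
    (hσ : σ ∈ (m ^ 2).inertia G) : σ = 1 := by
  have hkr : ⨅ i : ℕ, m ^ i = ⊥ := Ideal.iInf_pow_eq_bot_of_isDomain m hmax.ne_top
  have hn0 : orderOf σ ≠ 0 := (orderOf_pos σ).ne'
  have h2 : ((orderOf σ : ℕ) : B ⧸ m) ≠ 0 := by
    rw [Ne, Nat.cast_eq_zero]; exact hn0
  obtain ⟨v, hv⟩ := exists_mul_natCast_sub_one_mem m _ h2
  exact eq_one_of_pow_eq_one m hkr hσ _ (pow_orderOf_eq_one σ) v hv

end wild

section main

variable {A B : Type*} [CommRing A] [IsDomain A] [CommRing B] [IsDedekindDomain B] [Algebra A B]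
  [Module.Finite A B] [Module.Flat A B]
  (G : Type*) [Group G] [Finite G] [MulSemiringAction G B] [IsGaloisGroup G A B]
  (m : Ideal B) [hmax : m.IsMaximal] [hpmax : (m.under A).IsMaximal]
  [Algebra.IsSeparable (A ⧸ m.under A) (B ⧸ m)]

attribute [local instance] Ideal.Quotient.field in
theorem main (hm0 : m ≠ ⊥) :
    let D : Subgroup G := MulAction.stabilizer G m
    let I : Subgroup G := m.inertia G
    let P : Subgroup G := D ⊓ (m ^ 2).inertia G
    let e : ℕ := m.ramificationIdx A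
    P ≤ I ∧ I ≤ D ∧ (P.subgroupOf D).Normal ∧
    (∀ p : ℕ, p.Prime → CharP (B ⧸ m) p → IsPGroup p P) ∧
    (CharZero (B ⧸ m) → P = ⊥) ∧
    (∀ [(P.subgroupOf I).Normal],
      IsCyclic (I ⧸ P.subgroupOf I) ∧
      (∀ p : ℕ, p.Prime → CharP (B ⧸ m) p →
        Nat.card (I ⧸ P.subgroupOf I) = e / p ^ e.factorization p) ∧
      (CharZero (B ⧸ m) → Nat.card (I ⧸ P.subgroupOf I) = e) ∧
      Nonempty (I ⧸ P.subgroupOf I ≃* ↥(rootsOfUnity e (B ⧸ m)))) := by
  intro D I P e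
  have hfaith : FaithfulSMul G B := IsGaloisGroup.faithful A
  have hPI : P ≤ I := wild_le_inertia m
  have hID : I ≤ D := Ideal.inertia_le_stabilizer m
  have hPp : ∀ p : ℕ, p.Prime → CharP (B ⧸ m) p → IsPGroup p P := by
    intro p hp hchar g
    obtain ⟨k, hk⟩ := wild_pow_eq_one_of_charP G m p hp g.2.2
    exact ⟨k, Subtype.ext (by simpa using hk)⟩
  have hP0 : CharZero (B ⧸ m) → P = ⊥ := by
    intro hchar
    rw [Subgroup.eq_bot_iff_forall]
    intro σ hσ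
    exact wild_eq_one_of_charZero G m hσ.2
  refine ⟨hPI, hID, wild_normal m, hPp, hP0, ?_⟩
  intro hnorm
  -- the tame character
  obtain ⟨π, hπ, hπ2, hm⟩ := exists_uniformizer m hm0
  let θ : I →* (B ⧸ m)ˣ := (theta m π hπ hπ2 hm).toHomUnits
  have hθ : ∀ σ : I, ((θ σ : (B ⧸ m)ˣ) : B ⧸ m) = theta m π hπ hπ2 hm σ := fun σ => rfl
  have hker : θ.ker = P.subgroupOf I := by
    ext σ
    rw [MonoidHom.mem_ker, Subgroup.mem_subgroupOf, ← Units.val_inj, hθ, Units.val_one,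
      theta_eq_one_iff]
    constructor
    · intro h
      have h1 := fun y hy => smul_sub_mem_sq_of_mem (G := G) m π hπ hm σ.2 h (y := y) hy
      exact ⟨hID σ.2, mem_inertia_sq_of_isSeparable m A (A ⧸ m.under A)
        Ideal.Quotient.mk_surjective σ.2 h1⟩
    · intro h
      exact h.2 π
  let φ : I ⧸ P.subgroupOf I →* (B ⧸ m)ˣ := QuotientGroup.lift (P.subgroupOf I) θ (by rw [hker])
  have hφ : Function.Injective φ := by
    rw [← MonoidHom.ker_eq_bot_iff, QuotientGroup.ker_lift, hker, QuotientGroup.map_mk'_self]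
  have hcard : Nat.card I = e := card_inertia_eq_ramificationIdx G (m.under A) m
  have hPp' : ∀ p : ℕ, p.Prime → CharP (B ⧸ m) p → IsPGroup p (P.subgroupOf I) := by
    intro p hp hchar g
    obtain ⟨k, hk⟩ := wild_pow_eq_one_of_charP G m p hp g.2.2
    exact ⟨k, Subtype.ext (Subtype.ext (by simpa using hk))⟩
  have hP0' : CharZero (B ⧸ m) → Nat.card (I ⧸ P.subgroupOf I) = e := by
    intro hchar
    have h1 : P.subgroupOf I = ⊥ := by rw [hP0 hchar]; simp
    have h2 := (P.subgroupOf I).card_eq_card_quotient_mul_card_subgroup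
    have h3 : Nat.card (P.subgroupOf I) = 1 := by rw [h1]; exact Subgroup.card_bot
    rw [h3, mul_one, hcard] at h2
    exact h2.symm
  refine ⟨isCyclic_quotient _ φ hφ, ?_, hP0', ?_⟩
  · intro p hp hchar
    haveI : Fact p.Prime := ⟨hp⟩
    exact (card_quotient_of_charP _ φ hφ e hcard p (hPp' p hp hchar)).1
  · obtain ⟨p, hchar⟩ := CharP.exists (B ⧸ m)
    rcases CharP.char_is_prime_or_zero (B ⧸ m) p with hp | hp0
    · haveI : Fact p.Prime := ⟨hp⟩
      obtain ⟨k, hk⟩ := (card_quotient_of_charP _ φ hφ e hcard p (hPp' p hp hchar)).2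
      haveI : ExpChar (B ⧸ m) p := ExpChar.prime hp
      refine nonempty_mulEquiv_rootsOfUnity _ φ hφ e ?_
      ext ζ
      rw [hk, mem_rootsOfUnity_prime_pow_mul_iff]
    · subst hp0
      haveI : CharZero (B ⧸ m) := CharP.charP_to_charZero _
      refine nonempty_mulEquiv_rootsOfUnity _ φ hφ e ?_
      rw [hP0' inferInstance]

end main

end Groth.Agent.H8.Ram
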